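import Groth.Agent.Lib.LimH13.Iso
import Groth.Agent.Lib.Descend.Stage
import Groth.Prelude.Def_Red
import Groth.Prelude.Def_AlgGrp

/-!
# Descent of closed subgroup schemes along limits
-/

universe u

open CategoryTheory Limits AlgebraicGeometry MonoidalCategory CartesianMonoidalCategory MonObj GrpObj

set_option backward.isDefEq.respectTransparency false
set_option backward.isDefEq.respectTransparency.types false
set_option linter.style.haveILetI false
set_option synthInstance.maxHeartbeats 200000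

noncomputable section

namespace Groth.Agent.SubGrp13

section Abstract

universe v w

variable {C : Type w} [Category.{v} C] [CartesianMonoidalCategory C] {G H : C} [GrpObj G] (i : H ⟶ G) [Mono i]
  {m : H ⊗ H ⟶ H} {e : 𝟙_ C ⟶ H} {n : H ⟶ H}
  (hm : m ≫ i = (fst H H ≫ i) * (snd H H ≫ i)) (he : e ≫ i = 1) (hn : n ≫ i = i⁻¹)

include hm in
theorem lift_m {X : C} (a b : X ⟶ H) : lift a b ≫ m ≫ i = (a ≫ i) * (b ≫ i) := by
  rw [hm, MonObj.comp_mul, lift_fst_assoc, lift_snd_assoc]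

include he in
theorem comp_e {X : C} (a : X ⟶ 𝟙_ C) : a ≫ e ≫ i = 1 := by rw [he, MonObj.comp_one]

/-- A group structure on a subobject closed under the operations. -/
@[reducible]
def grpObjOfMono : GrpObj H where
  one := e
  mul := m
  one_mul := by
    rw [← cancel_mono i, Category.assoc, hm, MonObj.comp_mul, whiskerRight_fst_assoc, comp_e i he,
      _root_.one_mul, whiskerRight_snd_assoc]
    rw [leftUnitor_hom]
  mul_one := by
    rw [← cancel_mono i, Category.assoc, hm, MonObj.comp_mul, whiskerLeft_fst_assoc,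
      whiskerLeft_snd_assoc, comp_e i he, _root_.mul_one]
    rw [rightUnitor_hom]
  mul_assoc := by
    rw [← cancel_mono i]
    simp only [Category.assoc, hm, MonObj.comp_mul, whiskerRight_fst_assoc, whiskerRight_snd_assoc,
      whiskerLeft_fst_assoc, whiskerLeft_snd_assoc, associator_hom_fst_assoc]
    rw [← Category.assoc (fst (H ⊗ H) H) (fst H H), ← Category.assoc (fst (H ⊗ H) H) (snd H H), _root_.mul_assoc]
    simp [associator_hom_snd_fst_assoc, associator_hom_snd_snd_assoc]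
  inv := n
  left_inv := by
    rw [← cancel_mono i, Category.assoc, lift_m i hm, hn, Category.id_comp, inv_mul_cancel,
      Category.assoc, comp_e i he]
  right_inv := by
    rw [← cancel_mono i, Category.assoc, lift_m i hm, hn, Category.id_comp, mul_inv_cancel,
      Category.assoc, comp_e i he]

theorem isMonHom_grpObjOfMono :
    letI := grpObjOfMono i hm he hn
    IsMonHom i := by
  letI := grpObjOfMono i hm he hn
  refine ⟨?_, ?_⟩
  · show e ≫ i = η[G]
    rw [he, one_eq_one]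
  · show m ≫ i = (i ⊗ₘ i) ≫ μ[G]
    rw [hm, MonObj.mul_eq_mul, MonObj.comp_mul, tensorHom_fst, tensorHom_snd]

end Abstract

section Descent

variable {I : Type u} [SmallCategory I] [IsCofiltered I] {D : I ⥤ Scheme.{u}} {c : Cone D}

/-- `f₀` factors through `ι₀` after base change along `b`. -/
def Factors {S T : Scheme.{u}} (b : T ⟶ S) {A₀ G₀ H₀ : Over S} (f₀ : A₀ ⟶ G₀) (ι₀ : H₀ ⟶ G₀) : Prop :=
  ∃ l : (Over.pullback b).obj A₀ ⟶ (Over.pullback b).obj H₀,
    l ≫ (Over.pullback b).map ι₀ = (Over.pullback b).map f₀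

theorem Factors.comp {S T T' : Scheme.{u}} {b : T ⟶ S} {b' : T' ⟶ T} {b'' : T' ⟶ S} (hb : b' ≫ b = b'')
    {A₀ G₀ H₀ : Over S} {f₀ : A₀ ⟶ G₀} {ι₀ : H₀ ⟶ G₀} (h : Factors b f₀ ι₀) : Factors b'' f₀ ι₀ := by
  obtain ⟨l, hl⟩ := h
  subst hb
  let u : pullback A₀.hom (b' ≫ b) ⟶ pullback A₀.hom b :=
    pullback.map _ _ _ _ (𝟙 _) b' (𝟙 _) (by simp) (by simp)
  have hsnd : l.left ≫ pullback.snd H₀.hom b = pullback.snd A₀.hom b := Over.w l
  have hfst : l.left ≫ pullback.fst H₀.hom b ≫ ι₀.left = pullback.fst A₀.hom b ≫ f₀.left := by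
    have := congrArg (fun k => k.left ≫ pullback.fst G₀.hom b) hl
    simpa [Over.pullback] using this
  refine ⟨Over.homMk (pullback.lift (u ≫ l.left ≫ pullback.fst H₀.hom b) (pullback.snd _ _) ?_) ?_, ?_⟩
  · simp only [Category.assoc, pullback.condition, reassoc_of% hsnd]
    simp [u]
  · exact pullback.lift_snd _ _ _
  · refine Over.OverMorphism.ext (pullback.hom_ext ?_ ?_)
    · simp [Over.pullback, hfst, u]
    · simp [Over.pullback]

theorem exists_factors [∀ {i j : I} (a : i ⟶ j), IsAffineHom (D.map a)] (hc : IsLimit c) (i₀ : I)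
    [CompactSpace (D.obj i₀)] {A₀ G₀ H₀ : Over (D.obj i₀)} [QuasiCompact A₀.hom] (f₀ : A₀ ⟶ G₀)
    (ι₀ : H₀ ⟶ G₀) [IsClosedImmersion ι₀.left] [LocallyOfFinitePresentation ι₀.left]
    (h : Factors (c.π.app i₀) f₀ ι₀) : ∃ (i : I) (a : i ⟶ i₀), Factors (D.map a) f₀ ι₀ := by
  obtain ⟨l, hl⟩ := h
  let F := Over.forget i₀
  let D₁ := F ⋙ D
  let t₁ := Descend.overT D i₀
  let c₁ : Cone D₁ := c.whisker F
  have hc₁ : IsLimit c₁ := (Functor.Initial.isLimitWhiskerEquiv F c).symm hc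
  have hq₁ : ∀ k, c₁.π.app k ≫ t₁.app k = c.π.app i₀ := fun k => c.w k.hom
  haveI : ∀ k, IsAffineHom (t₁.app k) := fun k =>
    ‹∀ {i j : I} (a : i ⟶ j), IsAffineHom (D.map a)› k.hom
  haveI : CompactSpace A₀.left := QuasiCompact.compactSpace_of_compactSpace A₀.hom
  have hP₁ : IsPullback (pullback.fst A₀.hom (c.π.app i₀)) (pullback.snd A₀.hom (c.π.app i₀))
      A₀.hom (c.π.app i₀) := IsPullback.of_hasPullback _ _
  let D₂ := Descend.pbDiagram D₁ t₁ A₀.hom
  let t₂ := Descend.pbFst D₁ t₁ A₀.hom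
  let c₂ : Cone D₂ := Descend.pbCone D₁ t₁ A₀.hom c₁ hq₁ hP₁
  have hc₂ : IsLimit c₂ := Descend.pbIsLimit D₁ t₁ A₀.hom c₁ hq₁ hP₁ hc₁
  let z : pullback f₀.left ι₀.left ⟶ A₀.left := pullback.fst f₀.left ι₀.left
  let q := pullback.fst A₀.hom (c.π.app i₀)
  let g := pullback.snd z q
  haveI : IsClosedImmersion z := MorphismProperty.pullback_fst _ _ inferInstance
  haveI : LocallyOfFinitePresentation z := MorphismProperty.pullback_fst _ _ inferInstance
  have hfst : l.left ≫ pullback.fst H₀.hom (c.π.app i₀) ≫ ι₀.left = q ≫ f₀.left := by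
    have := congrArg (fun k => k.left ≫ pullback.fst G₀.hom (c.π.app i₀)) hl
    simpa [Over.pullback, q] using this
  haveI : IsIso g := by
    haveI : IsClosedImmersion g := MorphismProperty.pullback_snd _ _ inferInstance
    haveI : IsSplitEpi g := IsSplitEpi.mk' ⟨pullback.lift
      (pullback.lift q (l.left ≫ pullback.fst H₀.hom (c.π.app i₀)) (by rw [Category.assoc]; exact hfst.symm))
      (𝟙 _) ((pullback.lift_fst _ _ _).trans (Category.id_comp _).symm), pullback.lift_snd _ _ _⟩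
    exact isIso_of_mono_of_isSplitEpi g
  obtain ⟨k, hk⟩ := LimH13.exists_isIso (D := D₂) (t := t₂) (f := z) (c := c₂) (q := q)
    hc₂ (fun j => Descend.pbCone_fst D₁ t₁ A₀.hom c₁ hq₁ hP₁ j) (IsPullback.of_hasPullback z q)
  refine ⟨k.left, k.hom, ?_⟩
  let s : pullback A₀.hom (D.map k.hom) ⟶ H₀.left :=
    inv (pullback.snd z (t₂.app k)) ≫ pullback.fst z (t₂.app k) ≫ pullback.snd f₀.left ι₀.left
  have hs : s ≫ ι₀.left = pullback.fst A₀.hom (D.map k.hom) ≫ f₀.left := by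
    simp only [s, Category.assoc, ← pullback.condition]
    change inv (pullback.snd z (t₂.app k)) ≫ pullback.fst z (t₂.app k) ≫ z ≫ f₀.left = _
    rw [pullback.condition_assoc, IsIso.inv_hom_id_assoc]
    rfl
  refine ⟨Over.homMk (pullback.lift s (pullback.snd _ _) ?_) (pullback.lift_snd _ _ _), ?_⟩
  · rw [← Over.w ι₀, reassoc_of% hs, Over.w f₀, pullback.condition]
  · refine Over.OverMorphism.ext (pullback.hom_ext ?_ ?_)
    · simp [Over.pullback, hs]
    · simp [Over.pullback]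

variable {S T : Scheme.{u}} (b : T ⟶ S) {G₀ H₀ : Over S} [GrpObj G₀] (ι₀ : H₀ ⟶ G₀)

/-- The product map into the ambient group. -/
abbrev mulHom : H₀ ⊗ H₀ ⟶ G₀ := (fst H₀ H₀ ≫ ι₀) * (snd H₀ H₀ ≫ ι₀)

/-- The conjugation map into the ambient group. -/
abbrev conjHom : G₀ ⊗ H₀ ⟶ G₀ := fst G₀ H₀ * (snd G₀ H₀ ≫ ι₀) * (fst G₀ H₀)⁻¹

theorem factors_of_isMonHom [GrpObj (Red.bc b H₀)] [IsMonHom ((Over.pullback b).map ι₀)] :
    Factors b (mulHom ι₀) ι₀ ∧ Factors b (1 : 𝟙_ (Over S) ⟶ G₀) ι₀ ∧ Factors b ι₀⁻¹ ι₀ := by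
  refine ⟨⟨(Over.pullback b).map (fst H₀ H₀) * (Over.pullback b).map (snd H₀ H₀), ?_⟩, ⟨1, ?_⟩,
    ⟨(𝟙 _)⁻¹, ?_⟩⟩
  · rw [MonObj.mul_comp, ← Functor.map_comp, ← Functor.map_comp, ← Functor.map_mul]
  · rw [MonObj.one_comp, Functor.map_one]
  · rw [GrpObj.inv_comp, Category.id_comp, Functor.map_inv']

theorem factors_conj_of_isNormalHom [GrpObj (Red.bc b H₀)]
    (hN : AlgGrp.IsNormalHom ((Over.pullback b).map ι₀)) : Factors b (conjHom ι₀) ι₀ := by
  obtain ⟨n, hn⟩ := hN _ ((Over.pullback b).map (fst G₀ H₀)) ((Over.pullback b).map (snd G₀ H₀))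
  refine ⟨n, hn.symm.trans ?_⟩
  rw [Functor.map_mul, Functor.map_mul, Functor.map_inv', ← Functor.map_comp]

theorem exists_grpObj [IsClosedImmersion ι₀.left]
    (h : Factors b (mulHom ι₀) ι₀ ∧ Factors b (1 : 𝟙_ (Over S) ⟶ G₀) ι₀ ∧ Factors b ι₀⁻¹ ι₀) :
    ∃ _ : GrpObj (Red.bc b H₀), IsMonHom ((Over.pullback b).map ι₀) := by
  obtain ⟨⟨lm, hlm⟩, ⟨le, hle⟩, ⟨ln, hln⟩⟩ := h
  let i := (Over.pullback b).map ι₀
  haveI : Mono ι₀ := (Over.forget S).mono_of_mono_map (inferInstanceAs (Mono ι₀.left))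
  haveI : Mono i := inferInstance
  have hm : (Functor.LaxMonoidal.μ (Over.pullback b) H₀ H₀ ≫ lm) ≫ i = (fst _ _ ≫ i) * (snd _ _ ≫ i) := by
    rw [Category.assoc, hlm, Functor.map_mul, MonObj.comp_mul, Functor.map_comp, Functor.map_comp,
      Functor.Monoidal.μ_fst_assoc, Functor.Monoidal.μ_snd_assoc]
  have he : (Functor.LaxMonoidal.ε (Over.pullback b) ≫ le) ≫ i = 1 := by
    rw [Category.assoc, hle, Functor.map_one, MonObj.comp_one]
  have hn : ln ≫ i = i⁻¹ := by rw [hln, Functor.map_inv']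
  exact ⟨grpObjOfMono i hm he hn, isMonHom_grpObjOfMono i hm he hn⟩

theorem isNormalHom_of_factors [GrpObj (Red.bc b H₀)] (h : Factors b (conjHom ι₀) ι₀) :
    AlgGrp.IsNormalHom ((Over.pullback b).map ι₀) := by
  obtain ⟨l, hl⟩ := h
  intro U g n
  refine ⟨(lift g n ≫ Functor.LaxMonoidal.μ (Over.pullback b) G₀ H₀) ≫ l, ?_⟩
  rw [Category.assoc, Category.assoc, hl, Functor.map_mul, Functor.map_mul, Functor.map_inv',
    Functor.map_comp]
  simp only [MonObj.comp_mul, GrpObj.comp_inv, Functor.Monoidal.μ_fst, Functor.Monoidal.μ_snd_assoc,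
    lift_fst, lift_snd_assoc]

end Descent

end Groth.Agent.SubGrp13
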